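import Groth.Agent.FittPrincipalLib.Main
import Groth.Agent.BlowUpLib.Chart
import Groth.Prelude.Def_FlatCA

/-!
Strict transforms of finite modules in an affine blow-up of a Fitting ideal.
-/

set_option autoImplicit false
set_option maxHeartbeats 1000000
set_option linter.style.haveILetI false
universe u
open TensorProduct

namespace Groth.Agent.FittPrincipalLib

variable {R : Type u} [CommRing R] {M : Type u} [AddCommGroup M] [Module R M]

theorem mem_powTorsion {f : R} {x : M} :
    x ∈ FlatCA.powTorsion R f M ↔ ∃ n : ℕ, f ^ n • x = 0 := by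
  rw [FlatCA.powTorsion, Submodule.mem_iSup_of_directed _ (Monotone.directed_le ?_)]
  · simp [Submodule.mem_torsionBy_iff]
  · intro i j hij y hy
    rw [Submodule.mem_torsionBy_iff] at hy ⊢
    obtain ⟨d, rfl⟩ := Nat.exists_eq_add_of_le hij
    rw [pow_add, mul_comm, mul_smul, hy, smul_zero]

/-- With a principal Fitting ideal, the quotient by the torsion has unit Fitting ideal. -/
theorem ideal_quotient_eq_top [Module.Finite R M] (k : ℕ) {f : R} (hf0 : f ∈ nonZeroDivisors R)
    (hf : Fitt.ideal R M k = Ideal.span {f}) :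
    Fitt.ideal R (M ⧸ FlatCA.powTorsion R f M) k = ⊤ := by
  classical
  set N := FlatCA.powTorsion R f M with hN
  obtain ⟨n, x, hx⟩ := FittLib.exists_gen (R := R) M
  have hqx : Submodule.span R (Set.range (N.mkQ ∘ x)) = ⊤ := by
    rw [Set.range_comp, ← Submodule.map_span, hx, Submodule.map_top, Submodule.range_mkQ]
  by_cases hnk : n ≤ k
  · exact FittLib.ideal_top_of_gen _ hqx hnk
  set X := Fintype.linearCombination R x
  set m := n - k with hm
  have hJ : FittLib.J (FittLib.rel (R := R) x) m = Ideal.span {f} := by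
    rw [hm, ← FittLib.ideal_eq x hx, hf]
  by_contra hne
  obtain ⟨p, hp, hle⟩ := Ideal.exists_le_maximal _ hne
  obtain ⟨z, e, a, hz, hza, ha⟩ : ∃ (z : Fin m → Fin n → R) (e : Fin m → Fin n) (a : R),
      (∀ b, z b ∈ FittLib.rel (R := R) x) ∧ FittLib.minor z e = f * a ∧ a ∉ p := by
    by_contra hcon
    push Not at hcon
    have h : FittLib.J (FittLib.rel (R := R) x) m ≤ Ideal.span {f} * p := by
      refine FittLib.J_le_iff.mpr fun z e hz => ?_
      obtain ⟨a, ha⟩ := Ideal.mem_span_singleton'.mp (hJ ▸ FittLib.minor_mem e hz)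
      rw [show FittLib.minor z e = f * a by rw [← ha, mul_comm]]
      exact Ideal.mul_mem_mul (Ideal.mem_span_singleton_self f)
        (hcon z e a hz (by rw [← ha, mul_comm]))
    obtain ⟨c, hc, hfc⟩ := Ideal.mem_span_singleton_mul.mp (h (hJ ▸ Ideal.mem_span_singleton_self f))
    rw [(mul_cancel_left_mem_nonZeroDivisors hf0).mp (show f * c = f * 1 by rw [hfc, mul_one])] at hc
    exact hp.ne_top ((Ideal.eq_top_iff_one p).mpr hc)
  have hinj : Function.Injective e := by
    by_contra he
    rw [FittLib.minor_eq_zero_of_not_injective z he, eq_comm,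
      mul_left_mem_nonZeroDivisors_eq_zero_iff hf0] at hza
    exact ha (hza ▸ p.zero_mem)
  have hdet : (mat z e).det = f * a := (det_eq_minor z e).trans hza
  obtain ⟨π, hπ⟩ := exists_div hf0 (schur z e) fun v i => hJ ▸ schur_mem z e _ hz v i
  have hπe : ∀ w b, π w (e b) = 0 := by
    intro w b
    apply (mul_cancel_left_mem_nonZeroDivisors hf0).mp
    have h : (mat z e).mulVec (coef z e w) = (mat z e).det • fun c => w (e c) := by
      simp [coef, Matrix.mulVec_mulVec, Matrix.mul_adjugate, Matrix.smul_mulVec]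
      rfl
    have hb := congrFun h b
    simp only [Matrix.mulVec, dotProduct, Pi.smul_apply, smul_eq_mul, mat, Matrix.of_apply] at hb
    rw [mul_zero, ← smul_eq_mul, ← Pi.smul_apply, hπ, schur_apply,
      show (mat z e).det * w (e b) = _ from hb.symm, sub_eq_zero]
    exact Finset.sum_congr rfl fun _ _ => mul_comm _ _
  have hXπ : ∀ w, N.mkQ (X (π w)) = a • N.mkQ (X w) := by
    intro w
    rw [← map_smul]
    refine (Submodule.Quotient.eq N).mpr (mem_powTorsion.mpr ⟨1, ?_⟩)
    have h2 : X (schur z e w) = (f * a) • X w := by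
      rw [schur, LinearMap.sub_apply, LinearMap.comp_apply, map_sub, LinearMap.smul_apply,
        LinearMap.id_apply, map_smul, hdet,
        show Fintype.linearCombination R z (coef z e w) = ∑ b, coef z e w b • z b from rfl, map_sum]
      refine sub_eq_self.mpr (Finset.sum_eq_zero fun b _ => ?_)
      have : X (z b) = 0 := hz b
      rw [map_smul, this, smul_zero]
    rw [pow_one, smul_sub, ← map_smul, hπ, h2, smul_smul, sub_self]
  have hcard : Fintype.card {j : Fin n // j ∉ Set.range e} = k := by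
    rw [Fintype.card_subtype_compl, Fintype.card_fin]
    have : Fintype.card {j // j ∈ Set.range e} = m :=
      (Set.card_range_of_injective hinj).trans (Fintype.card_fin _)
    omega
  let c := (Fintype.equivFinOfCardEq hcard).symm
  let g : Fin k → M ⧸ N := fun i => N.mkQ (x (c i))
  have hgen : ∀ q : M ⧸ N, a • q ∈ Submodule.span R (Set.range g) := by
    intro q
    obtain ⟨v, rfl⟩ := N.mkQ_surjective q
    obtain ⟨w, rfl⟩ := FittLib.linearCombination_surjective hx v
    show a • N.mkQ (X w) ∈ _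
    rw [← hXπ, show X (π w) = ∑ i, π w i • x i from rfl, map_sum]
    refine Submodule.sum_mem _ fun i _ => ?_
    rw [map_smul]
    by_cases hi : i ∈ Set.range e
    · obtain ⟨b, rfl⟩ := hi
      rw [hπe, zero_smul]
      exact zero_mem _
    · refine Submodule.smul_mem _ _ (Submodule.subset_span ⟨c.symm ⟨i, hi⟩, ?_⟩)
      simp [g]
  exact FittLib.not_le_of_gen_localized (M := M ⧸ N) p.primeCompl (fun s hs => hs) _
    (FittLib.exists_gen_localized p.primeCompl ha g hgen) hle

theorem powTorsion_eq_ker [Module.Finite R M] (k : ℕ) {f : R} (hf0 : f ∈ nonZeroDivisors R)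
    (hf : Fitt.ideal R M k = Ideal.span {f}) (hk : k = 0 ∨ Fitt.ideal R M (k - 1) = ⊥) :
    FlatCA.powTorsion R f M = LinearMap.ker (f • (LinearMap.id : M →ₗ[R] M)) := by
  ext x
  rw [mem_powTorsion, LinearMap.mem_ker, LinearMap.smul_apply, LinearMap.id_apply]
  exact (main k f hf0 hf hk).2.1 x

theorem chart_facts {I : Ideal R} {a : R} (ha : a ∈ I) (R₁ : Type u) [CommRing R₁] [Algebra R R₁]
    (e : R₁ ≃ₐ[R] ↥(BlowUp.affineAlgebra R I a)) :
    algebraMap R R₁ a ∈ nonZeroDivisors R₁ ∧
      I.map (algebraMap R R₁) = Ideal.span {algebraMap R R₁ a} := by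
  have h := BlowUpLib.isChart_affineAlgebra (I := I) (a := a) ha
  constructor
  · refine mem_nonZeroDivisors_iff_right.mpr fun z hz => e.injective ?_
    rw [map_zero]
    refine mem_nonZeroDivisors_iff_right.mp h.nzd (e z) ?_
    rw [← e.commutes a, ← map_mul, hz, map_zero]
  · have he : algebraMap R R₁ = (e.symm.toRingEquiv.toRingHom).comp (algebraMap R _) :=
      RingHom.ext fun r => (e.symm.commutes r).symm
    rw [he, ← Ideal.map_map, h.span, Ideal.map_span, Set.image_singleton]
    rfl

theorem strictTransform_eq_top [Module.Finite R M] (k : ℕ) (a : R) (ha : a ∈ Fitt.ideal R M k)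
    (R₁ : Type u) [CommRing R₁] [Algebra R R₁]
    (e : R₁ ≃ₐ[R] ↥(BlowUp.affineAlgebra R (Fitt.ideal R M k) a)) :
    Fitt.ideal R₁ ((R₁ ⊗[R] M) ⧸ FlatCA.powTorsion R₁ (algebraMap R R₁ a) (R₁ ⊗[R] M)) k = ⊤ := by
  obtain ⟨h0, h1⟩ := chart_facts ha R₁ e
  exact ideal_quotient_eq_top k h0 (by rw [FittLib.ideal_tensor, h1])

theorem strictTransform_free [Module.Finite R M] (k : ℕ)
    (hfree : ∀ (p : Ideal R) [p.IsPrime], ¬ Fitt.ideal R M k ≤ p →
      Module.Free (Localization.AtPrime p) (LocalizedModule p.primeCompl M) ∧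
        Module.finrank (Localization.AtPrime p) (LocalizedModule p.primeCompl M) = k)
    (a : R) (ha : a ∈ Fitt.ideal R M k) (R₁ : Type u) [CommRing R₁] [Algebra R R₁]
    (e : R₁ ≃ₐ[R] ↥(BlowUp.affineAlgebra R (Fitt.ideal R M k) a)) :
    ∀ (p' : Ideal R₁) [p'.IsPrime], ∃ g : R₁, g ∉ p' ∧
      Module.Free (Localization.Away g) (LocalizedModule (Submonoid.powers g) ((R₁ ⊗[R] M) ⧸ FlatCA.powTorsion R₁ (algebraMap R R₁ a) (R₁ ⊗[R] M))) ∧
      Module.finrank (Localization.Away g) (LocalizedModule (Submonoid.powers g) ((R₁ ⊗[R] M) ⧸ FlatCA.powTorsion R₁ (algebraMap R R₁ a) (R₁ ⊗[R] M))) = k := by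
  obtain ⟨h0, h1⟩ := chart_facts ha R₁ e
  have hf : Fitt.ideal R₁ (R₁ ⊗[R] M) k = Ideal.span {algebraMap R R₁ a} := by
    rw [FittLib.ideal_tensor, h1]
  have hk : k = 0 ∨ Fitt.ideal R₁ (R₁ ⊗[R] M) (k - 1) = ⊥ := by
    rcases Nat.eq_zero_or_pos k with h | h
    · exact Or.inl h
    refine Or.inr ?_
    rw [FittLib.ideal_tensor, Ideal.map_eq_bot_iff_le_ker]
    intro b hb
    -- `b` is killed by a power of `a`
    obtain ⟨N, hN⟩ : a ∈ (Submodule.colon (⊥ : Ideal R) {b}).radical := by
      rw [Ideal.radical_eq_sInf, Submodule.mem_sInf]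
      suffices H : ∀ p : Ideal R, p.IsPrime → Submodule.colon (⊥ : Ideal R) {b} ≤ p → a ∈ p from
        fun p hp' => H p hp'.2 hp'.1
      intro p hp hle
      by_contra hap
      haveI := hp
      obtain ⟨hF, hrank⟩ := hfree p fun hI => hap (hI ha)
      haveI := hF
      haveI : Module.Finite (Localization.AtPrime p) (LocalizedModule p.primeCompl M) :=
        Module.Finite.of_isLocalizedModule p.primeCompl (LocalizedModule.mkLinearMap p.primeCompl M)
      have h2 : algebraMap R (Localization.AtPrime p) b ∈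
          (Fitt.ideal R M (k - 1)).map (algebraMap R (Localization p.primeCompl)) :=
        Ideal.mem_map_of_mem _ hb
      rw [← FittLib.ideal_localized, FittLib.ideal_of_basis (Module.finBasisOfFinrankEq _ _ hrank) (k - 1),
        Fintype.card_fin, if_neg (by omega), Ideal.mem_bot] at h2
      obtain ⟨⟨s, hs⟩, hsb⟩ := (IsLocalization.map_eq_zero_iff p.primeCompl _ b).mp h2
      exact hs (hle (by simpa [Submodule.mem_colon_singleton] using hsb))
    rw [Submodule.mem_colon_singleton, Submodule.mem_bot, smul_eq_mul] at hN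
    rw [RingHom.mem_ker]
    have h3 : algebraMap R R₁ a ^ N * algebraMap R R₁ b = 0 := by rw [← map_pow, ← map_mul, hN, map_zero]
    exact (mul_left_mem_nonZeroDivisors_eq_zero_iff (pow_mem h0 N)).mp h3
  intro p' _
  rw [powTorsion_eq_ker k h0 hf hk]
  exact (main k _ h0 hf hk).2.2.2.1 p'

end Groth.Agent.FittPrincipalLib
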