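import Groth.Agent.FittPrincipalLib.Strict

/-!
An ideal whose blow-up makes a strict transform locally free.
-/

set_option autoImplicit false
set_option maxHeartbeats 1000000
set_option linter.style.haveILetI false
universe u
open TensorProduct

namespace Groth.Agent.FittPrincipalLib

variable {R : Type u} [CommRing R] {M : Type u} [AddCommGroup M] [Module R M]

theorem exists_blow [Module.Finite R M] (f : R) (r : ℕ)
    (hf : ∀ (p : Ideal R) [p.IsPrime], f ∉ p → ∃ g : R, g ∉ p ∧ g ∈ (Ideal.span {f}).radical ∧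
      Module.Free (Localization.Away g) (LocalizedModule (Submonoid.powers g) M) ∧
        Module.finrank (Localization.Away g) (LocalizedModule (Submonoid.powers g) M) = r) :
    ∃ I : Ideal R, I.FG ∧ I.radical = (Ideal.span {f}).radical ∧ ∀ a ∈ I, ∀ (R₁ : Type u) [CommRing R₁] [Algebra R R₁] (e : R₁ ≃ₐ[R] ↥(BlowUp.affineAlgebra R I a)),
      ∀ (p' : Ideal R₁) [p'.IsPrime], ∃ g : R₁, g ∉ p' ∧
        Module.Free (Localization.Away g) (LocalizedModule (Submonoid.powers g) ((R₁ ⊗[R] M) ⧸ FlatCA.powTorsion R₁ (algebraMap R R₁ a) (R₁ ⊗[R] M))) ∧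
        Module.finrank (Localization.Away g) (LocalizedModule (Submonoid.powers g) ((R₁ ⊗[R] M) ⧸ FlatCA.powTorsion R₁ (algebraMap R R₁ a) (R₁ ⊗[R] M))) = r := by
  classical
  obtain ⟨n, x, hx⟩ := FittLib.exists_gen (R := R) M
  set m := n - r with hm
  -- `f` is in the radical of the Fitting ideal
  have hrad : f ∈ (FittLib.J (FittLib.rel (R := R) x) m).radical := by
    rw [hm, ← FittLib.ideal_eq x hx, Ideal.radical_eq_sInf, Submodule.mem_sInf]
    suffices H : ∀ p : Ideal R, p.IsPrime → Fitt.ideal R M r ≤ p → f ∈ p from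
      fun p hp' => H p hp'.2 hp'.1
    intro p hp hle
    by_contra hfp
    obtain ⟨g, hg, -, hfree, hrank⟩ := hf p hfp
    haveI := hfree
    haveI : Nontrivial (Localization.Away g) := FittLib.nontrivial_away hg
    haveI : Module.Finite (Localization.Away g) (LocalizedModule (Submonoid.powers g) M) :=
      Module.Finite.of_isLocalizedModule (Submonoid.powers g) (LocalizedModule.mkLinearMap _ M)
    refine FittLib.not_le_of_gen_localized (Submonoid.powers g) ?_ _
      (Module.finBasisOfFinrankEq _ _ hrank).span_eq hle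
    rintro _ ⟨i, rfl⟩ hi
    exact hg (hp.mem_of_pow_mem i hi)
  -- higher minors are killed by powers of `f`
  have htors' : 0 < r → ∀ b ∈ Fitt.ideal R M (r - 1), ∃ K, f ^ K * b = 0 := by
    intro hpos b hb'
    obtain ⟨K, hK⟩ : f ∈ (Submodule.colon (⊥ : Ideal R) {b}).radical := by
      rw [Ideal.radical_eq_sInf, Submodule.mem_sInf]
      suffices H : ∀ p : Ideal R, p.IsPrime → Submodule.colon (⊥ : Ideal R) {b} ≤ p → f ∈ p from
        fun p hp' => H p hp'.2 hp'.1
      intro p hp hle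
      by_contra hfp
      obtain ⟨g, hg, -, hfree, hrank⟩ := hf p hfp
      haveI := hfree
      haveI : Nontrivial (Localization.Away g) := FittLib.nontrivial_away hg
      haveI : Module.Finite (Localization.Away g) (LocalizedModule (Submonoid.powers g) M) :=
        Module.Finite.of_isLocalizedModule (Submonoid.powers g) (LocalizedModule.mkLinearMap _ M)
      have h2 : algebraMap R (Localization.Away g) b ∈
          (Fitt.ideal R M (r - 1)).map (algebraMap R (Localization (Submonoid.powers g))) :=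
        Ideal.mem_map_of_mem _ hb'
      rw [← FittLib.ideal_localized, FittLib.ideal_of_basis (Module.finBasisOfFinrankEq _ _ hrank) (r - 1),
        Fintype.card_fin, if_neg (by omega), Ideal.mem_bot] at h2
      obtain ⟨⟨_, i, rfl⟩, hsb⟩ := (IsLocalization.map_eq_zero_iff (Submonoid.powers g) _ b).mp h2
      exact hg (hp.mem_of_pow_mem i (hle (by simpa [Submodule.mem_colon_singleton] using hsb)))
    exact ⟨K, by simpa [Submodule.mem_colon_singleton] using hK⟩
  have htors : ∀ b ∈ FittLib.J (FittLib.rel (R := R) x) (m + 1), ∃ K, f ^ K * b = 0 := by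
    intro b hb
    rcases Nat.eq_zero_or_pos r with h0 | hpos
    · refine ⟨0, ?_⟩
      rw [FittLib.J_eq_bot_of_card_lt _ (by simp [hm, h0]), Ideal.mem_bot] at hb
      rw [hb, mul_zero]
    refine htors' hpos b ?_
    rw [FittLib.ideal_eq x hx]
    exact FittLib.J_antitone _ (by omega) hb
  -- finitely many minors with a power of `f` in their span
  obtain ⟨N₀, hN₀⟩ := hrad
  obtain ⟨L, c, dd, hdd⟩ := Submodule.mem_span_set'.mp hN₀
  have hd : ∀ l, ∃ (z : Fin m → Fin n → R) (e : Fin m → Fin n),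
      (∀ b, z b ∈ FittLib.rel (R := R) x) ∧ (dd l : R) = FittLib.minor z e := fun l => (dd l).2
  choose z e hz hmin using hd
  let G : Set (Fin n → R) := Set.range fun lb : Fin L × Fin m => z lb.1 lb.2
  let K₀ : Submodule R (Fin n → R) := Submodule.span R G
  have hGrel : K₀ ≤ LinearMap.ker (Fintype.linearCombination R x) := Submodule.span_le.mpr fun _ ⟨lb, h⟩ =>
    h ▸ (hz lb.1 lb.2 : _)
  -- every relation is in `K₀` up to a power of `f`
  have hK₀ : ∀ w, Fintype.linearCombination R x w = 0 → ∃ K, f ^ K • w ∈ K₀ := by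
    intro w hw
    have h1 : ∀ l, ∃ K, f ^ K • ((dd l : R) ^ 2 • w) ∈ K₀ := by
      intro l
      have h2 : ∀ i, ∃ K, f ^ K * ((mat (z l) (e l)).det * schur (z l) (e l) w i) = 0 := fun i =>
        htors _ (det_mul_schur_mem (z l) (e l) _ (hz l) hw i)
      choose K hK using h2
      refine ⟨Finset.univ.sup K, ?_⟩
      have hd' : (dd l : R) = (mat (z l) (e l)).det := (hmin l).trans (det_eq_minor _ _).symm
      have h3 : f ^ Finset.univ.sup K • ((dd l : R) ^ 2 • w) =
          f ^ Finset.univ.sup K • (dd l : R) • ∑ b, coef (z l) (e l) w b • z l b := by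
        funext i
        simp only [Pi.smul_apply, smul_eq_mul, Finset.sum_apply, hd']
        obtain ⟨d, hd⟩ := Nat.exists_eq_add_of_le (Finset.le_sup (f := K) (Finset.mem_univ i))
        have h4 := hK i
        rw [schur_apply] at h4
        rw [hd, pow_add]
        linear_combination (f ^ d) * h4
      rw [h3]
      exact Submodule.smul_mem _ _ (Submodule.smul_mem _ _ (Submodule.sum_mem _ fun b _ =>
        Submodule.smul_mem _ _ (Submodule.subset_span ⟨(l, b), rfl⟩)))
    choose K hK using h1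
    -- squares of the minors still contain a power of `f`
    have h5 : f ∈ (Ideal.span (Set.range fun l => (dd l : R) ^ 2)).radical := by
      rw [Ideal.radical_eq_sInf, Submodule.mem_sInf]
      suffices H : ∀ p : Ideal R, p.IsPrime → Ideal.span (Set.range fun l => (dd l : R) ^ 2) ≤ p → f ∈ p from
        fun p hp' => H p hp'.2 hp'.1
      intro p hp hle
      refine hp.mem_of_pow_mem N₀ (hdd ▸ p.sum_mem fun l _ => p.mul_mem_left _ ?_)
      exact hp.mem_of_pow_mem 2 (hle (Ideal.subset_span ⟨l, rfl⟩))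
    obtain ⟨N₁, hN₁⟩ := h5
    obtain ⟨c', hc'⟩ := (Submodule.mem_span_range_iff_exists_fun R).mp hN₁
    refine ⟨Finset.univ.sup K + N₁, ?_⟩
    rw [pow_add, mul_smul, ← hc', Finset.sum_smul, Finset.smul_sum]
    refine Submodule.sum_mem _ fun l _ => ?_
    obtain ⟨d, hd⟩ := Nat.exists_eq_add_of_le (Finset.le_sup (f := K) (Finset.mem_univ l))
    rw [smul_eq_mul, mul_smul, smul_comm _ (c' l), hd, pow_add, mul_comm, mul_smul]
    exact Submodule.smul_mem _ _ (Submodule.smul_mem _ _ (hK l))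
  -- the finitely presented module and the ideal
  let M₀ := (Fin n → R) ⧸ K₀
  let x₀ : Fin n → M₀ := fun i => K₀.mkQ (Pi.single i 1)
  have hlc : ∀ w : Fin n → R, Fintype.linearCombination R x₀ w = K₀.mkQ w := fun w => by
    rw [Fintype.linearCombination_apply]
    conv_rhs => rw [← Finset.univ_sum_single w, map_sum]
    refine Finset.sum_congr rfl fun i _ => ?_
    rw [← map_smul]
    congr 1
    ext j
    by_cases h : j = i
    · subst h; simp
    · simp [Pi.single_eq_of_ne h]
  have hx₀ : Submodule.span R (Set.range x₀) = ⊤ := by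
    rw [← Fintype.range_linearCombination, LinearMap.range_eq_top]
    intro q
    obtain ⟨w, rfl⟩ := K₀.mkQ_surjective q
    exact ⟨w, hlc w⟩
  have hrel₀ : FittLib.rel (R := R) x₀ = (K₀ : Set (Fin n → R)) := by
    ext w
    show ∑ i, w i • x₀ i = 0 ↔ _
    rw [← Fintype.linearCombination_apply, hlc]
    exact Submodule.Quotient.mk_eq_zero K₀
  haveI : Module.Finite R M₀ := Module.Finite.quotient R K₀
  haveI : Module.FinitePresentation R M₀ :=
    Module.finitePresentation_of_free_of_surjective K₀.mkQ K₀.mkQ_surjective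
      (by rw [Submodule.ker_mkQ]; exact Submodule.fg_span (Set.finite_range _))
  set F := Fitt.ideal R M₀ r with hF
  have hFfg : F.FG := FittLib.ideal_fg r
  have hfF : f ^ N₀ ∈ F := by
    rw [hF, FittLib.ideal_eq x₀ hx₀, hrel₀, ← hdd]
    refine Ideal.sum_mem _ fun l _ => Ideal.mul_mem_left _ _ ?_
    rw [hmin l]
    exact FittLib.minor_mem _ fun b => Submodule.subset_span ⟨(l, b), rfl⟩
  refine ⟨Ideal.span {f} * F, (Submodule.fg_span_singleton f).mul hFfg, ?_, ?_⟩
  · refine le_antisymm (Ideal.radical_mono Ideal.mul_le_left) ?_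
    refine (Ideal.radical_isRadical _).radical_le_iff.mpr ((Ideal.span_singleton_le_iff_mem _).mpr ?_)
    exact ⟨N₀ + 1, by rw [pow_succ']; exact Ideal.mul_mem_mul (Ideal.mem_span_singleton_self f) hfF⟩
  intro a ha R₁ _ _ e p' _
  obtain ⟨cc, hcc, rfl⟩ := Ideal.mem_span_singleton_mul.mp ha
  obtain ⟨h0, h1⟩ := chart_facts ha R₁ e
  set fb := algebraMap R R₁ f with hfb
  set cb := algebraMap R R₁ cc with hcb
  rw [map_mul, ← hfb, ← hcb] at h0 h1
  obtain ⟨hf0, hc0⟩ := mul_mem_nonZeroDivisors.mp h0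
  have hF1 : F.map (algebraMap R R₁) = Ideal.span {cb} := by
    refine le_antisymm (fun y hy => ?_) ((Ideal.span_singleton_le_iff_mem _).mpr (Ideal.mem_map_of_mem _ hcc))
    have h2 : fb * y ∈ Ideal.span {fb * cb} := by
      rw [← h1, Ideal.map_mul, Ideal.map_span, Set.image_singleton]
      exact Ideal.mul_mem_mul (Ideal.mem_span_singleton_self _) hy
    obtain ⟨t, ht⟩ := Ideal.mem_span_singleton'.mp h2
    rw [Ideal.mem_span_singleton']
    exact ⟨t, (mul_cancel_left_mem_nonZeroDivisors hf0).mp (by rw [← ht]; ring)⟩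
  let M₁ := R₁ ⊗[R] M₀
  have hk1 : Fitt.ideal R₁ M₁ r = Ideal.span {cb} := by rw [FittLib.ideal_tensor, hF1]
  have hk2 : r = 0 ∨ Fitt.ideal R₁ M₁ (r - 1) = ⊥ := by
    rcases Nat.eq_zero_or_pos r with h | h
    · exact Or.inl h
    refine Or.inr ?_
    rw [FittLib.ideal_tensor, Ideal.map_eq_bot_iff_le_ker]
    intro b hb
    rw [FittLib.ideal_eq x₀ hx₀, hrel₀] at hb
    obtain ⟨K, hK⟩ : ∃ K, f ^ K * b = 0 := by
      refine htors' h b ?_
      rw [FittLib.ideal_eq x hx]
      exact FittLib.J_mono (fun w hw => hGrel hw) _ hb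
    rw [RingHom.mem_ker]
    have h3 : fb ^ K * algebraMap R R₁ b = 0 := by rw [← map_pow, ← map_mul, hK, map_zero]
    exact (mul_left_mem_nonZeroDivisors_eq_zero_iff (pow_mem hf0 K)).mp h3
  obtain ⟨-, htor, -, hloc, -, hnzd⟩ := main_full (M := M₁) r cb hc0 hk1 hk2
  have hT₁ : FlatCA.powTorsion R₁ (fb * cb) M₁ = LinearMap.ker (cb • (LinearMap.id : M₁ →ₗ[R₁] M₁)) := by
    ext y
    rw [mem_powTorsion, LinearMap.mem_ker, LinearMap.smul_apply, LinearMap.id_apply]
    refine ⟨fun ⟨j, hj⟩ => hnzd _ (pow_mem h0 j) y hj, fun hy => ⟨1, ?_⟩⟩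
    rw [pow_one, mul_smul, hy, smul_zero]
  -- comparison with `M`
  let q₀ : M₀ →ₗ[R] M := K₀.liftQ (Fintype.linearCombination R x) hGrel
  let φ : M₁ →ₗ[R₁] R₁ ⊗[R] M := q₀.baseChange R₁
  have hq₀ : Function.Surjective q₀ := fun v => by
    obtain ⟨w, hw⟩ := FittLib.linearCombination_surjective hx v
    exact ⟨K₀.mkQ w, hw⟩
  have hφ : Function.Surjective φ := LinearMap.lTensor_surjective R₁ hq₀
  have hkill : ∀ y, φ y = 0 → ∃ j, (fb * cb) ^ j • y = 0 := by
    intro y hy
    obtain ⟨t, rfl⟩ := (lTensor_exact R₁ (LinearMap.exact_subtype_ker_map q₀) hq₀ y).mp hy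
    induction t using TensorProduct.induction_on with
    | zero => exact ⟨0, by simp⟩
    | tmul s k =>
      obtain ⟨w, hw⟩ := K₀.mkQ_surjective (k : M₀)
      have hw0 : Fintype.linearCombination R x w = 0 := by
        have := LinearMap.mem_ker.mp k.2
        rw [← hw] at this
        exact this
      obtain ⟨j, hj⟩ := hK₀ w hw0
      refine ⟨j, ?_⟩
      have h6 : f ^ j • (k : M₀) = 0 := by
        rw [← hw, ← map_smul]
        exact (Submodule.Quotient.mk_eq_zero K₀).mpr hj
      have h7 : fb ^ j • (s ⊗ₜ[R] (k : M₀) : M₁) = 0 := by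
        rw [hfb, ← map_pow, algebraMap_smul, ← TensorProduct.tmul_smul, h6, TensorProduct.tmul_zero]
      rw [mul_pow, mul_comm, mul_smul, LinearMap.lTensor_tmul, Submodule.coe_subtype, h7, smul_zero]
    | add t₁ t₂ h₁ h₂ =>
      have hex : ∀ t, φ (LinearMap.lTensor R₁ (LinearMap.ker q₀).subtype t) = 0 := fun t =>
        (lTensor_exact R₁ (LinearMap.exact_subtype_ker_map q₀) hq₀ _).mpr ⟨t, rfl⟩
      obtain ⟨j₁, hj₁⟩ := h₁ (hex t₁)
      obtain ⟨j₂, hj₂⟩ := h₂ (hex t₂)
      refine ⟨j₁ + j₂, ?_⟩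
      rw [map_add, smul_add, add_comm j₁ j₂, pow_add, mul_smul, hj₁, smul_zero, zero_add,
        mul_comm, mul_smul, hj₂, smul_zero]
  let T := FlatCA.powTorsion R₁ (fb * cb) (R₁ ⊗[R] M)
  let T₁ := FlatCA.powTorsion R₁ (fb * cb) M₁
  have hcomap : LinearMap.ker (T.mkQ ∘ₗ φ) = T₁ := by
    ext y
    rw [LinearMap.ker_comp, Submodule.ker_mkQ, Submodule.mem_comap]
    simp only [T, T₁, mem_powTorsion]
    constructor
    · rintro ⟨j, hj⟩
      rw [← map_smul] at hj
      obtain ⟨j', hj'⟩ := hkill _ hj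
      exact ⟨j' + j, by rw [pow_add, mul_smul, hj']⟩
    · rintro ⟨j, hj⟩
      exact ⟨j, by rw [← map_smul, hj, map_zero]⟩
  let E : (M₁ ⧸ LinearMap.ker (cb • (LinearMap.id : M₁ →ₗ[R₁] M₁))) ≃ₗ[R₁] ((R₁ ⊗[R] M) ⧸ T) :=
    (Submodule.quotEquivOfEq _ _ (hT₁.symm.trans hcomap.symm)).trans
      ((T.mkQ ∘ₗ φ).quotKerEquivOfSurjective (T.mkQ_surjective.comp hφ))
  obtain ⟨g, hg, hfree, hrank⟩ := hloc p'
  let E' := IsLocalizedModule.mapEquiv (Submonoid.powers g)
    (LocalizedModule.mkLinearMap (Submonoid.powers g) (M₁ ⧸ LinearMap.ker (cb • (LinearMap.id : M₁ →ₗ[R₁] M₁))))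
    (LocalizedModule.mkLinearMap (Submonoid.powers g) ((R₁ ⊗[R] M) ⧸ T)) (Localization.Away g) E
  haveI := hfree
  rw [map_mul, ← hfb, ← hcb]
  exact ⟨g, hg, Module.Free.of_equiv E', by rw [← E'.finrank_eq]; exact hrank⟩

end Groth.Agent.FittPrincipalLib
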