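import Groth.Agent.FittPrincipalLib.Schur
import Mathlib

/-!
Finitely presented modules with a principal Fitting ideal on a nonzerodivisor.
-/

set_option autoImplicit false
set_option maxHeartbeats 1000000
set_option linter.style.haveILetI false
universe u
open CategoryTheory Matrix

namespace Groth.Agent.FittPrincipalLib

variable {R : Type u} [CommRing R]

/-- Two maps composing to `D` both ways give a free module of the expected rank away from `D`. -/
theorem free_away {Q : Type u} [AddCommGroup Q] [Module R Q] {k : ℕ} (D : R)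
    (g : Fin k → Q) (H : Q →ₗ[R] (Fin k → R))
    (hHg : ∀ j, H (g j) = D • Pi.single j 1)
    (hgH : ∀ q, ∑ j, H q j • g j = D • q) :
    Nonempty (LocalizedModule (Submonoid.powers D) Q ≃ₗ[Localization.Away D]
      (Fin k → Localization.Away D)) := by
  classical
  set S := Submonoid.powers D with hS
  set L := Localization.Away D with hL
  let ψ : LocalizedModule S Q →ₗ[L] (Fin k → L) := LinearMap.pi fun j =>
    (IsLocalizedModule.map S (LocalizedModule.mkLinearMap S Q) (Algebra.linearMap R L)
      ((LinearMap.proj j).comp H)).extendScalarsOfIsLocalization S L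
  let G : (Fin k → L) →ₗ[L] LocalizedModule S Q :=
    Fintype.linearCombination L (fun j => LocalizedModule.mkLinearMap S Q (g j))
  set u := algebraMap R L D with hu
  have hψ : ∀ x j, ψ (LocalizedModule.mkLinearMap S Q x) j = algebraMap R L (H x j) := fun x j =>
    IsLocalizedModule.map_apply S (LocalizedModule.mkLinearMap S Q) (Algebra.linearMap R L)
      ((LinearMap.proj j).comp H) x
  have h1 : ψ ∘ₗ G = u • LinearMap.id := by
    apply LinearMap.pi_ext'
    intro j
    apply LinearMap.ext_ring
    ext l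
    simp only [LinearMap.comp_apply, LinearMap.coe_single, G,
      Fintype.linearCombination_apply_single, one_smul, LinearMap.smul_apply, LinearMap.id_apply,
      hψ, hHg, hu, Pi.smul_apply, smul_eq_mul]
    by_cases hl : l = j
    · subst hl; simp
    · simp [Pi.single_eq_of_ne hl]
  have h2 : G ∘ₗ ψ = u • LinearMap.id := by
    apply LinearMap.restrictScalars_injective R
    refine IsLocalizedModule.ext S (LocalizedModule.mkLinearMap S Q)
      (IsLocalizedModule.map_units (LocalizedModule.mkLinearMap S Q)) (LinearMap.ext fun x => ?_)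
    simp only [LinearMap.comp_apply, LinearMap.coe_restrictScalars, LinearMap.smul_apply,
      LinearMap.id_apply, G, Fintype.linearCombination_apply, hψ, algebraMap_smul, hu,
      ← map_smul, ← map_sum, hgH]
  obtain ⟨w, hw⟩ : IsUnit u := IsLocalization.map_units L (⟨D, 1, pow_one D⟩ : S)
  exact ⟨LinearEquiv.ofLinear ψ ((↑w⁻¹ : L) • G)
    (by rw [LinearMap.comp_smul, h1, smul_smul, ← hw, Units.inv_mul, one_smul])
    (by rw [LinearMap.smul_comp, h2, smul_smul, ← hw, Units.inv_mul, one_smul])⟩

variable {M : Type u} [AddCommGroup M] [Module R M]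

/-- The package attached to one minor `f * a`. -/
theorem package {n m : ℕ} (x : Fin n → M) (hx : Submodule.span R (Set.range x) = ⊤)
    {f a : R} (hf : f ∈ nonZeroDivisors R)
    (hJ : FittLib.J (FittLib.rel (R := R) x) m = Ideal.span {f})
    (hJ1 : FittLib.J (FittLib.rel (R := R) x) (m + 1) = ⊥)
    (z : Fin m → Fin n → R) (e : Fin m → Fin n) (hz : ∀ b, z b ∈ FittLib.rel (R := R) x)
    (hminor : FittLib.minor z e = f * a) :
    ∃ (ψ : M →ₗ[R] (Fin n → R))
      (g : LinearMap.ker (Fintype.linearCombination R x) →ₗ[R] (Fin m → R)),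
      (∀ v, f • (∑ i, ψ v i • x i) = f • ((a * a) • v)) ∧
      (∀ v b, ψ v (e b) = 0) ∧
      (∀ j, j ∉ Set.range e → ψ (x j) = (a * a) • Pi.single j 1) ∧
      (∀ w, ∑ b, g w b • z b = (a * a) • (w : Fin n → R)) := by
  classical
  set X := Fintype.linearCombination R x with hX
  have hXsurj : Function.Surjective X := FittLib.linearCombination_surjective hx
  have hrel : ∀ w, w ∈ FittLib.rel (R := R) x ↔ X w = 0 := fun w => by
    simp [FittLib.rel, hX, Fintype.linearCombination_apply]
  obtain ⟨π, hπ⟩ := exists_div hf (schur z e) fun v i => hJ ▸ schur_mem z e _ hz v i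
  have hcancel : ∀ {p q : Fin n → R}, f • p = f • q → p = q := fun {p q} h => by
    funext i
    exact (mul_cancel_left_mem_nonZeroDivisors hf).mp (congrFun h i)
  have hdet : (mat z e).det = f * a := (det_eq_minor z e).trans hminor
  have hann : ∀ w, X w = 0 → a • schur z e w = 0 := fun w hw => by
    apply hcancel
    funext i
    have := det_mul_schur_eq_zero z e _ hz hJ1 ((hrel w).mpr hw) i
    rw [hdet] at this
    simp only [Pi.smul_apply, smul_eq_mul, Pi.zero_apply, mul_zero]
    rw [← mul_assoc]; exact this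
  have hker : LinearMap.ker X ≤ LinearMap.ker (a • π) := by
    intro w hw
    apply hcancel
    rw [LinearMap.smul_apply, smul_comm f a, hπ, hann w (LinearMap.mem_ker.mp hw), smul_zero]
  let ψ : M →ₗ[R] (Fin n → R) :=
    ((LinearMap.ker X).liftQ (a • π) hker).comp (X.quotKerEquivOfSurjective hXsurj).symm.toLinearMap
  have hψ : ∀ w, ψ (X w) = a • π w := fun w => by
    have : (X.quotKerEquivOfSurjective hXsurj).symm (X w) = Submodule.Quotient.mk w := by
      rw [LinearEquiv.symm_apply_eq]; rfl
    simp [ψ, this]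
  obtain ⟨c, hc⟩ := exists_div hf ((coef z e).comp (LinearMap.ker X).subtype) fun w b =>
    hJ ▸ coef_mem z e _ hz ((hrel _).mpr w.2) b
  refine ⟨ψ, a • c, fun v => ?_, fun v b => ?_, fun j hj => ?_, fun w => ?_⟩
  · obtain ⟨w, rfl⟩ := hXsurj v
    have h1 : f • (∑ i, ψ (X w) i • x i) = a • X (schur z e w) := by
      rw [← Fintype.linearCombination_apply (R := R), ← hX, hψ, ← map_smul, smul_comm f a, hπ,
        map_smul]
    have h2 : X (schur z e w) = (f * a) • X w := by
      rw [schur, LinearMap.sub_apply, LinearMap.comp_apply, map_sub, LinearMap.smul_apply,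
        LinearMap.id_apply, map_smul, hdet,
        show Fintype.linearCombination R z (coef z e w) = ∑ b, coef z e w b • z b from rfl, map_sum]
      refine sub_eq_self.mpr (Finset.sum_eq_zero fun b _ => ?_)
      rw [map_smul, (hrel _).mp (hz b), smul_zero]
    rw [h1, h2, smul_smul, smul_smul]
    congr 1; ring
  · obtain ⟨w, rfl⟩ := hXsurj v
    rw [hψ]
    apply (mul_cancel_left_mem_nonZeroDivisors hf).mp
    rw [mul_zero, Pi.smul_apply, smul_eq_mul, mul_left_comm, ← smul_eq_mul f,
      ← Pi.smul_apply, hπ]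
    have h : (mat z e) *ᵥ coef z e w = (mat z e).det • fun c => w (e c) := by
      simp [coef, Matrix.mulVec_mulVec, Matrix.mul_adjugate, Matrix.smul_mulVec]
      rfl
    have hb := congrFun h b
    simp only [Matrix.mulVec, dotProduct, Pi.smul_apply, smul_eq_mul, mat, Matrix.of_apply] at hb
    rw [schur_apply, show (mat z e).det * w (e b) = _ from hb.symm]
    have : ∑ b', coef z e w b' * z b' (e b) = ∑ b', z b' (e b) * coef z e w b' :=
      Finset.sum_congr rfl fun _ _ => mul_comm _ _
    rw [this, sub_self, mul_zero]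
  · have hXj : X (Pi.single j 1) = x j := by simp [hX, Fintype.linearCombination_apply_single]
    rw [← hXj, hψ]
    apply hcancel
    rw [smul_comm f a, hπ]
    have h0 : coef z e (Pi.single j 1) = 0 := by
      have : LinearMap.funLeft R R e (Pi.single j (1 : R)) = 0 := by
        funext b
        simp only [LinearMap.funLeft_apply, Pi.zero_apply]
        exact Pi.single_eq_of_ne (fun h => hj ⟨b, h⟩) _
      rw [coef, LinearMap.comp_apply, this, map_zero]
    rw [schur, LinearMap.sub_apply, LinearMap.comp_apply, h0, map_zero, sub_zero,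
      LinearMap.smul_apply, LinearMap.id_apply, hdet]
    simp only [smul_smul]
    congr 1; ring
  · apply hcancel
    have h1 : a • schur z e (w : Fin n → R) = 0 := hann _ w.2
    rw [schur, LinearMap.sub_apply, LinearMap.comp_apply, LinearMap.smul_apply, LinearMap.id_apply,
      hdet, smul_sub, sub_eq_zero, Fintype.linearCombination_apply] at h1
    have hcw : ∀ b, f * c w b = coef z e (w : Fin n → R) b := fun b => congrFun (hc w) b
    rw [smul_smul] at h1
    rw [smul_smul, show f * (a * a) = a * (f * a) by ring, h1, Finset.smul_sum, Finset.smul_sum]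
    refine Finset.sum_congr rfl fun b _ => ?_
    rw [smul_smul, smul_smul, ← hcw b, LinearMap.smul_apply, Pi.smul_apply, smul_eq_mul]
    congr 1; ring

theorem main_full [Module.Finite R M] (k : ℕ) (f : R) (hf0 : f ∈ nonZeroDivisors R)
    (hf : Fitt.ideal R M k = Ideal.span {f}) (hk : k = 0 ∨ Fitt.ideal R M (k - 1) = ⊥) :
    HasProjectiveDimensionLT (ModuleCat.of R M) 2 ∧
    (∀ x : M, (∃ n : ℕ, f ^ n • x = 0) ↔ f • x = 0) ∧
    HasProjectiveDimensionLT (ModuleCat.of R ↥(LinearMap.ker (f • (LinearMap.id : M →ₗ[R] M)))) 2 ∧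
    (∀ (p : Ideal R) [p.IsPrime], ∃ g : R, g ∉ p ∧
      Module.Free (Localization.Away g)
          (LocalizedModule (Submonoid.powers g) (M ⧸ LinearMap.ker (f • (LinearMap.id : M →ₗ[R] M)))) ∧
        Module.finrank (Localization.Away g)
          (LocalizedModule (Submonoid.powers g) (M ⧸ LinearMap.ker (f • (LinearMap.id : M →ₗ[R] M)))) = k) ∧
    Nonempty (M ≃ₗ[R] (M ⧸ LinearMap.ker (f • (LinearMap.id : M →ₗ[R] M))) ×
      ↥(LinearMap.ker (f • (LinearMap.id : M →ₗ[R] M)))) ∧
    (∀ d ∈ nonZeroDivisors R, ∀ x : M, d • x = 0 → f • x = 0) := by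
  classical
  set N := LinearMap.ker (f • (LinearMap.id : M →ₗ[R] M)) with hN
  obtain ⟨n, x, hx⟩ := FittLib.exists_gen (R := R) M
  set X := Fintype.linearCombination R x with hX
  have hXsurj : Function.Surjective X := FittLib.linearCombination_surjective hx
  set m := n - k with hm
  have hJ : FittLib.J (FittLib.rel (R := R) x) m = Ideal.span {f} := by
    rw [hm, ← FittLib.ideal_eq x hx, hf]
  have hJ1 : FittLib.J (FittLib.rel (R := R) x) (m + 1) = ⊥ := by
    rcases hk with rfl | hk
    · exact FittLib.J_eq_bot_of_card_lt _ (by simp [hm])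
    · rw [FittLib.ideal_eq x hx] at hk
      by_cases hnk : k ≤ n ∧ 0 < k
      · rwa [show m + 1 = n - (k - 1) by omega]
      · by_cases hk0 : k = 0
        · subst hk0; exact FittLib.J_eq_bot_of_card_lt _ (by simp [hm])
        · rw [show n - (k - 1) = 0 by omega, FittLib.J_zero] at hk
          exact eq_bot_iff.mpr (hk ▸ le_top)
  -- partition of unity
  have hspan : Ideal.span {a : R | ∃ (z : Fin m → Fin n → R) (e : Fin m → Fin n),
      (∀ b, z b ∈ FittLib.rel (R := R) x) ∧ FittLib.minor z e = f * a} = ⊤ := by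
    set S := {a : R | ∃ (z : Fin m → Fin n → R) (e : Fin m → Fin n),
      (∀ b, z b ∈ FittLib.rel (R := R) x) ∧ FittLib.minor z e = f * a}
    have h : FittLib.J (FittLib.rel (R := R) x) m ≤ Ideal.span {f} * Ideal.span S := by
      refine FittLib.J_le_iff.mpr fun z e hz => ?_
      obtain ⟨a, ha⟩ := Ideal.mem_span_singleton'.mp (hJ ▸ FittLib.minor_mem e hz)
      rw [show FittLib.minor z e = f * a by rw [← ha, mul_comm]]
      exact Ideal.mul_mem_mul (Ideal.mem_span_singleton_self f)
        (Ideal.subset_span ⟨z, e, hz, by rw [← ha, mul_comm]⟩)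
    obtain ⟨c, hc, hfc⟩ := Ideal.mem_span_singleton_mul.mp (h (hJ ▸ Ideal.mem_span_singleton_self f))
    rw [Ideal.eq_top_iff_one]
    rwa [(mul_cancel_left_mem_nonZeroDivisors hf0).mp (show f * c = f * 1 by rw [hfc, mul_one])] at hc
  have hspan2 := Ideal.span_pow_eq_top _ hspan 2
  rw [Ideal.eq_top_iff_one] at hspan2
  obtain ⟨L, r, b, hrb⟩ := Submodule.mem_span_set'.mp hspan2
  have hb : ∀ l, ∃ (a : R) (z : Fin m → Fin n → R) (e : Fin m → Fin n),
      (∀ c, z c ∈ FittLib.rel (R := R) x) ∧ FittLib.minor z e = f * a ∧ a * a = (b l : R) := by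
    intro l
    obtain ⟨a, ⟨z, e, hz, hze⟩, ha⟩ := (b l).2
    exact ⟨a, z, e, hz, hze, by rw [← pow_two]; exact ha⟩
  choose a z e hz hminor ha using hb
  have hsum : ∑ l, r l * (a l * a l) = 1 := by simpa [ha] using hrb
  choose ψ g hψ hψe hψj hg using fun l =>
    package x hx hf0 hJ hJ1 (z l) (e l) (hz l) (hminor l)
  have hψN : ∀ l v, f • v = 0 → ψ l v = 0 := fun l v hv => by
    funext i
    have : f * ψ l v i = 0 := by
      rw [← smul_eq_mul, ← Pi.smul_apply, ← map_smul, hv, map_zero]; rfl
    exact (mul_left_mem_nonZeroDivisors_eq_zero_iff hf0).mp this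
  have hNmem : ∀ v : M, v ∈ N ↔ f • v = 0 := fun v => Iff.rfl
  let ρ : M →ₗ[R] M := ∑ l, r l • X.comp (ψ l)
  have hρ : ∀ v, f • ρ v = f • v := by
    intro v
    simp only [ρ, LinearMap.sum_apply, LinearMap.smul_apply, LinearMap.comp_apply, hX,
      Fintype.linearCombination_apply, Finset.smul_sum, smul_comm f (r _)]
    rw [← one_smul R (f • v), ← hsum, Finset.sum_smul]
    refine Finset.sum_congr rfl fun l _ => ?_
    rw [← Finset.smul_sum, ← Finset.smul_sum, hψ, smul_smul, smul_smul, smul_smul]
    congr 1; ring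
  have hρN : ∀ v, v - ρ v ∈ N := fun v => by rw [hNmem, smul_sub, hρ, sub_self]
  have hρ0 : N ≤ LinearMap.ker ρ := fun v hv => by
    simp [ρ, LinearMap.mem_ker, hψN _ v ((hNmem v).mp hv)]
  let σ : (M ⧸ N) →ₗ[R] M := N.liftQ ρ hρ0
  have hσ : ∀ q, N.mkQ (σ q) = q := fun q => by
    obtain ⟨v, rfl⟩ := N.mkQ_surjective q
    exact ((Submodule.Quotient.eq N).mpr (hρN v)).symm
  -- `Q` is a retract of a finite free module
  let ι : (M ⧸ N) →ₗ[R] (Fin L × Fin n → R) := N.liftQ
    (LinearMap.pi fun li => r li.1 • (LinearMap.proj li.2).comp (ψ li.1)) (fun v hv => by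
      rw [LinearMap.mem_ker]; funext li
      simp [hψN li.1 v ((hNmem v).mp hv)])
  let back : (Fin L × Fin n → R) →ₗ[R] (M ⧸ N) :=
    Fintype.linearCombination R fun li => N.mkQ (x li.2)
  have hback : back ∘ₗ ι = LinearMap.id := by
    refine Submodule.linearMap_qext _ (LinearMap.ext fun v => ?_)
    have h1 : back (ι (N.mkQ v)) = N.mkQ (ρ v) := by
      simp [back, ι, ρ, hX, Fintype.linearCombination_apply, Fintype.sum_prod_type,
        Finset.smul_sum, map_sum, smul_smul]
    show back (ι (N.mkQ v)) = N.mkQ v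
    rw [h1]
    exact (hσ (N.mkQ v))
  have hιinj : Function.Injective ι := fun p q h => by
    have := congrArg back h
    rwa [← LinearMap.comp_apply, ← LinearMap.comp_apply, hback] at this
  -- splitting
  let E : M ≃ₗ[R] (M ⧸ N) × N := LinearEquiv.ofLinear
    (N.mkQ.prod ((LinearMap.id - ρ).codRestrict N fun v => hρN v))
    (σ.coprod N.subtype)
    (by
      refine LinearMap.ext fun ⟨q, v⟩ => ?_
      have h1 : N.mkQ (v : M) = 0 := (Submodule.Quotient.mk_eq_zero N).mpr v.2
      have h2 : ρ (σ q) = σ q := by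
        obtain ⟨w, rfl⟩ := N.mkQ_surjective q
        show ρ (ρ w) = ρ w
        have h3 := hρ0 (hρN w)
        rw [LinearMap.mem_ker, map_sub, sub_eq_zero] at h3
        exact h3.symm
      have h3 : ρ (v : M) = 0 := LinearMap.mem_ker.mp (hρ0 v.2)
      have h4 : N.mkQ (σ q + v) = q := by rw [map_add, hσ, h1, add_zero]
      refine Prod.ext h4 (Subtype.ext ?_)
      show (σ q + (v : M)) - ρ (σ q + v) = v
      rw [map_add, h2, h3]; abel)
    (by
      refine LinearMap.ext fun v => ?_
      show ρ v + (v - ρ v) = v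
      abel)
  -- projective dimension
  haveI : Module.Projective R (LinearMap.ker X) := by
    let t : LinearMap.ker X →ₗ[R] (Fin L × Fin m → R) :=
      LinearMap.pi fun lb => r lb.1 • (LinearMap.proj lb.2).comp (g lb.1)
    let s : (Fin L × Fin m → R) →ₗ[R] LinearMap.ker X :=
      (Fintype.linearCombination R fun lb : Fin L × Fin m => z lb.1 lb.2).codRestrict _ fun c => by
        rw [LinearMap.mem_ker, show Fintype.linearCombination R (fun lb : Fin L × Fin m => z lb.1 lb.2) c =
          ∑ lb : Fin L × Fin m, c lb • z lb.1 lb.2 from rfl, map_sum]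
        refine Finset.sum_eq_zero fun lb _ => ?_
        have : X (z lb.1 lb.2) = 0 := by
          simpa [FittLib.rel, hX, Fintype.linearCombination_apply] using hz lb.1 lb.2
        rw [map_smul, this, smul_zero]
    refine Module.Projective.of_split t s (LinearMap.ext fun w => Subtype.ext ?_)
    show Fintype.linearCombination R (fun lb : Fin L × Fin m => z lb.1 lb.2) (t w) = (w : Fin n → R)
    simp only [Fintype.linearCombination_apply, Fintype.sum_prod_type, t, LinearMap.pi_apply,
      LinearMap.smul_apply, LinearMap.comp_apply, LinearMap.proj_apply, smul_eq_mul, mul_smul,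
      ← Finset.smul_sum, hg]
    conv_rhs => rw [← one_smul R (w : Fin n → R), ← hsum, Finset.sum_smul]
    simp [smul_smul]
  have hpd : HasProjectiveDimensionLT (ModuleCat.of R M) 2 := by
    have hS := LinearMap.shortExact_shortComplexKer hXsurj
    haveI h1 : Projective (ModuleCat.of R (LinearMap.ker X)) :=
      (IsProjective.iff_projective _).mp inferInstance
    haveI h2 : Projective (ModuleCat.of R (Fin n → R)) :=
      (IsProjective.iff_projective _).mp inferInstance
    exact hS.hasProjectiveDimensionLT_X₃ 1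
      (projective_iff_hasProjectiveDimensionLT_one.mp h1)
      ((hasProjectiveDimensionLT_of_ge _ 1 2 (by norm_num)))
  refine ⟨hpd, fun v => ⟨?_, fun h => ⟨1, by rwa [pow_one]⟩⟩, ?_, fun p _ => ?_, ⟨E⟩,
    fun d hd v hv => ?_⟩
  · rintro ⟨j, hj⟩
    rw [← hNmem, ← Submodule.Quotient.mk_eq_zero N]
    apply hιinj
    rw [map_zero]
    funext li
    have h := congrFun (show f ^ j • ι (Submodule.Quotient.mk v) = 0 by
      rw [← map_smul, ← Submodule.Quotient.mk_smul, hj, Submodule.Quotient.mk_zero, map_zero]) li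
    exact (mul_left_mem_nonZeroDivisors_eq_zero_iff (pow_mem hf0 j)).mp h
  · let Ret : Retract (ModuleCat.of R N) (ModuleCat.of R M) :=
      { i := ModuleCat.ofHom N.subtype
        r := ModuleCat.ofHom ((LinearMap.snd R _ _).comp E.toLinearMap)
        retract := by
          refine ModuleCat.hom_ext (LinearMap.ext fun v => Subtype.ext ?_)
          show (v : M) - ρ v = v
          rw [LinearMap.mem_ker.mp (hρ0 v.2), sub_zero] }
    exact Ret.hasProjectiveDimensionLT 2
  · have hp : p ≠ ⊤ := ‹p.IsPrime›.ne_top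
    obtain ⟨l, hl⟩ : ∃ l, a l * a l ∉ p := by
      by_contra hh
      push Not at hh
      exact hp ((Ideal.eq_top_iff_one p).mpr (hsum ▸ p.sum_mem fun l _ => p.mul_mem_left _ (hh l)))
    set D := a l * a l with hD
    refine ⟨D, hl, ?_⟩
    haveI : Nontrivial R := ⟨⟨0, 1, fun h => hl (by rw [← mul_one D, ← h, mul_zero]; exact p.zero_mem)⟩⟩
    have hkn : k ≤ n := by
      by_contra hkn
      rw [show m + 1 = 1 by omega] at hJ1
      have h0 : FittLib.J (FittLib.rel (R := R) x) 0 = ⊤ := FittLib.J_zero _
      rcases hk with hk0 | hk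
      · omega
      · rw [FittLib.ideal_eq x hx, show n - (k - 1) = 0 by omega, h0] at hk
        exact top_ne_bot hk
    have hinj : Function.Injective (e l) := by
      by_contra he
      have := FittLib.minor_eq_zero_of_not_injective (z l) he
      rw [hminor l, mul_left_mem_nonZeroDivisors_eq_zero_iff hf0] at this
      exact hl (by rw [hD, this, mul_zero]; exact p.zero_mem)
    have hcard : Fintype.card {j : Fin n // j ∉ Set.range (e l)} = k := by
      rw [Fintype.card_subtype_compl, Fintype.card_fin]
      have : Fintype.card {j // j ∈ Set.range (e l)} = m :=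
        (Set.card_range_of_injective hinj).trans (Fintype.card_fin _)
      omega
    let c := (Fintype.equivFinOfCardEq hcard).symm
    let H : (M ⧸ N) →ₗ[R] (Fin k → R) := N.liftQ
      ((LinearMap.funLeft R R fun j => (c j : Fin n)).comp (ψ l)) (fun v hv => by
        simp [LinearMap.mem_ker, hψN l v ((hNmem v).mp hv)])
    obtain ⟨eQ⟩ := free_away D (fun j => N.mkQ (x (c j))) H
      (fun j => by
        funext i
        show ψ l (x (c j)) (c i) = _
        rw [hψj l _ (c j).2]
        by_cases hij : i = j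
        · subst hij; simp [hD]
        · simp [Pi.single_eq_of_ne hij,
            Pi.single_eq_of_ne (show (c i : Fin n) ≠ c j from fun h => hij (c.injective (Subtype.ext h)))])
      (fun q => by
        obtain ⟨v, rfl⟩ := N.mkQ_surjective q
        show ∑ j, ψ l v (c j) • N.mkQ (x (c j)) = D • N.mkQ v
        have h1 : ∑ j, ψ l v (c j) • N.mkQ (x (c j)) = N.mkQ (∑ i, ψ l v i • x i) := by
          rw [map_sum]
          simp only [map_smul]
          rw [Equiv.sum_comp c (fun j => ψ l v (j : Fin n) • N.mkQ (x (j : Fin n)))]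
          rw [← Finset.sum_subtype (Finset.univ.filter fun i => i ∉ Set.range (e l)) (by simp)
            (fun i => ψ l v i • N.mkQ (x i))]
          refine Finset.sum_subset (Finset.subset_univ _) fun i _ hi => ?_
          obtain ⟨b, rfl⟩ : i ∈ Set.range (e l) := by simpa using hi
          rw [hψe, zero_smul]
        rw [h1, ← map_smul]
        exact (Submodule.Quotient.eq N).mpr ((hNmem _).mpr (by rw [smul_sub, hψ, sub_self])))
    haveI : Nontrivial (Localization.Away D) := FittLib.nontrivial_away hl
    exact ⟨Module.Free.of_equiv eQ.symm, by rw [eQ.finrank_eq, Module.finrank_fin_fun]⟩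
  · rw [← hNmem, ← Submodule.Quotient.mk_eq_zero N]
    apply hιinj
    rw [map_zero]
    funext li
    have h := congrFun (show d • ι (Submodule.Quotient.mk v) = 0 by
      rw [← map_smul, ← Submodule.Quotient.mk_smul, hv, Submodule.Quotient.mk_zero, map_zero]) li
    exact (mul_left_mem_nonZeroDivisors_eq_zero_iff hd).mp h


theorem main [Module.Finite R M] (k : ℕ) (f : R) (hf0 : f ∈ nonZeroDivisors R)
    (hf : Fitt.ideal R M k = Ideal.span {f}) (hk : k = 0 ∨ Fitt.ideal R M (k - 1) = ⊥) :
    HasProjectiveDimensionLT (ModuleCat.of R M) 2 ∧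
    (∀ x : M, (∃ n : ℕ, f ^ n • x = 0) ↔ f • x = 0) ∧
    HasProjectiveDimensionLT (ModuleCat.of R ↥(LinearMap.ker (f • (LinearMap.id : M →ₗ[R] M)))) 2 ∧
    (∀ (p : Ideal R) [p.IsPrime], ∃ g : R, g ∉ p ∧
      Module.Free (Localization.Away g)
          (LocalizedModule (Submonoid.powers g) (M ⧸ LinearMap.ker (f • (LinearMap.id : M →ₗ[R] M)))) ∧
        Module.finrank (Localization.Away g)
          (LocalizedModule (Submonoid.powers g) (M ⧸ LinearMap.ker (f • (LinearMap.id : M →ₗ[R] M)))) = k) ∧
    Nonempty (M ≃ₗ[R] (M ⧸ LinearMap.ker (f • (LinearMap.id : M →ₗ[R] M))) ×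
      ↥(LinearMap.ker (f • (LinearMap.id : M →ₗ[R] M)))) :=
  let h := main_full (M := M) k f hf0 hf hk
  ⟨h.1, h.2.1, h.2.2.1, h.2.2.2.1, h.2.2.2.2.1⟩

end Groth.Agent.FittPrincipalLib
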