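import Groth.Agent.FittLib.LocFree

/-!
The Schur complement of a relation matrix, and the operators it gives when a Fitting ideal is
principal on a nonzerodivisor and the previous one vanishes.
-/

set_option autoImplicit false
set_option linter.unusedSectionVars false
universe u
open Matrix

namespace Groth.Agent.FittPrincipalLib

variable {R : Type u} [CommRing R] {n m : ℕ}

/-- `z` restricted to the rows `e` -/
def mat (z : Fin m → Fin n → R) (e : Fin m → Fin n) : Matrix (Fin m) (Fin m) R :=
  Matrix.of fun a b => z b (e a)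

/-- `w ↦ adj A * w|e` -/
def coef (z : Fin m → Fin n → R) (e : Fin m → Fin n) : (Fin n → R) →ₗ[R] (Fin m → R) :=
  (mat z e).adjugate.mulVecLin.comp (LinearMap.funLeft R R e)

/-- the Schur complement `w ↦ det A • w - ∑ c_b(w) • z_b` -/
def schur (z : Fin m → Fin n → R) (e : Fin m → Fin n) : (Fin n → R) →ₗ[R] (Fin n → R) :=
  (mat z e).det • LinearMap.id - (Fintype.linearCombination R z).comp (coef z e)

theorem schur_apply (z : Fin m → Fin n → R) (e : Fin m → Fin n) (w : Fin n → R) (i : Fin n) :
    schur z e w i = (mat z e).det * w i - ∑ b, coef z e w b * z b i := by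
  simp [schur, Fintype.linearCombination_apply, Finset.sum_apply]

theorem det_eq_minor (z : Fin m → Fin n → R) (e : Fin m → Fin n) :
    (mat z e).det = FittLib.minor z e := rfl

theorem coef_mem (z : Fin m → Fin n → R) (e : Fin m → Fin n) (G : Set (Fin n → R))
    (hz : ∀ b, z b ∈ G) {w : Fin n → R} (hw : w ∈ G) (b : Fin m) :
    coef z e w b ∈ FittLib.J G m := by
  have h : coef z e w b = FittLib.minor (Function.update z b w) e := by
    have h1 : (Matrix.of fun a c => Function.update z b w c (e a)) =
        (mat z e).updateCol b (fun a => w (e a)) := by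
      ext a c
      by_cases h : c = b <;> simp [mat, h, Matrix.updateCol_apply]
    show _ = Matrix.det _
    rw [h1, ← Matrix.cramer_apply, Matrix.cramer_eq_adjugate_mulVec]
    rfl
  rw [h]
  refine FittLib.minor_mem e fun c => ?_
  by_cases hc : c = b
  · subst hc; simpa using hw
  · simpa [hc] using hz c

theorem adjugate_dot_mem (z : Fin m → Fin n → R) (e : Fin m → Fin n) (G : Set (Fin n → R))
    (hz : ∀ b, z b ∈ G) (a : Fin m) (i : Fin n) :
    ∑ b, (mat z e).adjugate b a * z b i ∈ FittLib.J G m := by
  have h : ∑ b, (mat z e).adjugate b a * z b i = FittLib.minor z (Function.update e a i) := by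
    have h1 : (Matrix.of fun a' b => z b (Function.update e a i a')) =
        (mat z e).updateRow a (fun b => z b i) := by
      ext a' b
      by_cases h : a' = a <;> simp [mat, h, Matrix.updateRow_apply]
    show _ = Matrix.det _
    rw [h1, ← Matrix.cramer_transpose_apply, Matrix.cramer_eq_adjugate_mulVec,
      ← Matrix.adjugate_transpose]
    simp [Matrix.mulVec, dotProduct]
  rw [h]
  exact FittLib.minor_mem _ hz

/-- all values of the Schur complement lie in an ideal containing the `m`-minors -/
theorem schur_mem (z : Fin m → Fin n → R) (e : Fin m → Fin n) (G : Set (Fin n → R))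
    (hz : ∀ b, z b ∈ G) (w : Fin n → R) (i : Fin n) :
    schur z e w i ∈ FittLib.J G m := by
  rw [schur_apply]
  refine sub_mem (Ideal.mul_mem_right _ _ ?_) ?_
  · rw [det_eq_minor]; exact FittLib.minor_mem _ hz
  · have : ∑ b, coef z e w b * z b i = ∑ a, w (e a) * ∑ b, (mat z e).adjugate b a * z b i := by
      simp only [coef, LinearMap.comp_apply, Matrix.mulVecLin_apply, Matrix.mulVec, dotProduct,
        LinearMap.funLeft_apply, Finset.sum_mul, Finset.mul_sum]
      rw [Finset.sum_comm]
      exact Finset.sum_congr rfl fun a _ => Finset.sum_congr rfl fun b _ => by ring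
    rw [this]
    exact Ideal.sum_mem _ fun a _ => Ideal.mul_mem_left _ _ (adjugate_dot_mem z e G hz a i)

/-- Bordered determinant: `det B * det A = det A * schur`. -/
theorem det_mul_schur_mem (z : Fin m → Fin n → R) (e : Fin m → Fin n) (G : Set (Fin n → R))
    (hz : ∀ b, z b ∈ G) {w : Fin n → R} (hw : w ∈ G) (i : Fin n) :
    (mat z e).det * schur z e w i ∈ FittLib.J G (m + 1) := by
  classical
  let z' : Fin m ⊕ Fin 1 → Fin n → R := Sum.elim z (fun _ => w)
  let e' : Fin m ⊕ Fin 1 → Fin n := Sum.elim e (fun _ => i)
  let B : Matrix (Fin m ⊕ Fin 1) (Fin m ⊕ Fin 1) R := Matrix.of fun a b => z' b (e' a)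
  have hB0 : B.det ∈ FittLib.J G (m + 1) := by
    have h : FittLib.minor (z' ∘ finSumFinEquiv.symm) (e' ∘ finSumFinEquiv.symm) ∈
        FittLib.J G (m + 1) := by
      refine FittLib.minor_mem _ fun b => ?_
      show z' (finSumFinEquiv.symm b) ∈ G
      rcases finSumFinEquiv.symm b with c | c
      · exact hz c
      · exact hw
    rw [← Matrix.det_submatrix_equiv_self finSumFinEquiv.symm B]
    exact h
  let C : Matrix (Fin m ⊕ Fin 1) (Fin m ⊕ Fin 1) R := Matrix.fromBlocks 1
    (Matrix.of fun b _ => - coef z e w b) 0 (Matrix.of fun _ _ => (mat z e).det)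
  have hB : B = Matrix.fromBlocks (mat z e) (Matrix.of fun a _ => w (e a))
      (Matrix.of fun _ b => z b i) (Matrix.of fun _ _ => w i) := by
    ext (a | a) (b | b) <;> rfl
  have hBC : B * C = Matrix.fromBlocks (mat z e) 0 (Matrix.of fun _ b => z b i)
      (Matrix.of fun _ _ => schur z e w i) := by
    have hkey : (mat z e) *ᵥ coef z e w = (mat z e).det • fun a => w (e a) := by
      simp [coef, Matrix.mulVec_mulVec, Matrix.mul_adjugate, Matrix.smul_mulVec]
      rfl
    rw [hB, Matrix.fromBlocks_multiply, Matrix.mul_one, Matrix.mul_zero, add_zero, Matrix.mul_one,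
      Matrix.mul_zero, add_zero]
    congr 1
    · ext a c
      have := congrFun hkey a
      simp only [Matrix.mulVec, dotProduct, Pi.smul_apply, smul_eq_mul] at this
      simp only [Matrix.add_apply, Matrix.mul_apply, Matrix.of_apply, Matrix.zero_apply,
        Finset.univ_unique, Finset.sum_singleton, mul_neg, Finset.sum_neg_distrib, this]
      ring
    · ext a c
      simp only [Matrix.add_apply, Matrix.mul_apply, Matrix.of_apply, schur_apply,
        Finset.univ_unique, Finset.sum_singleton, mul_neg, Finset.sum_neg_distrib]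
      have : ∑ b, z b i * coef z e w b = ∑ b, coef z e w b * z b i :=
        Finset.sum_congr rfl fun b _ => mul_comm _ _
      rw [this]
      ring
  have h := congrArg Matrix.det hBC
  rw [Matrix.det_mul, Matrix.det_fromBlocks_zero₁₂, Matrix.det_fin_one, Matrix.of_apply] at h
  rw [← h]
  exact Ideal.mul_mem_right _ _ hB0

theorem det_mul_schur_eq_zero (z : Fin m → Fin n → R) (e : Fin m → Fin n) (G : Set (Fin n → R))
    (hz : ∀ b, z b ∈ G) (hG : FittLib.J G (m + 1) = ⊥) {w : Fin n → R} (hw : w ∈ G) (i : Fin n) :
    (mat z e).det * schur z e w i = 0 := by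
  have h := det_mul_schur_mem z e G hz hw i
  rwa [hG, Ideal.mem_bot] at h



variable {f : R}

/-- Data: a relation minor equal to `f * a`, with the induced division by `f`. -/
theorem exists_div {ι : Type*} [Fintype ι] [DecidableEq ι] {M : Type*} [AddCommGroup M] [Module R M]
    (hf : f ∈ nonZeroDivisors R) (T : M →ₗ[R] (ι → R)) (hT : ∀ v i, T v i ∈ Ideal.span {f}) :
    ∃ π : M →ₗ[R] (ι → R), ∀ v, f • π v = T v := by
  have h : ∀ v : M, ∃ p : ι → R, f • p = T v := fun v => by
    choose p hp using fun i => Ideal.mem_span_singleton'.mp (hT v i)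
    exact ⟨p, funext fun i => by rw [Pi.smul_apply, smul_eq_mul, mul_comm, hp]⟩
  choose p hp using h
  have hinj : ∀ {a b : ι → R}, f • a = f • b → a = b := fun {a b} hab => by
    funext i
    exact (mul_cancel_left_mem_nonZeroDivisors hf).mp (congrFun hab i)
  refine ⟨{ toFun := p, map_add' := fun x y => hinj ?_, map_smul' := fun c x => hinj ?_ }, hp⟩
  · rw [smul_add, hp, hp, hp, map_add]
  · rw [RingHom.id_apply, smul_comm f c, hp, hp, map_smul]

end Groth.Agent.FittPrincipalLib
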